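import Groth.Agent.Pic13.H971.TwistChi
import Groth.Agent.Models.TrivGeom
import Groth.Prelude.Def_Pic13

/-!
# S4305 from S4276
-/

set_option autoImplicit false
universe u
open CategoryTheory CategoryTheory.Limits AlgebraicGeometry

namespace Groth.Agent.Pic13.H971.S4305_of_S4276

theorem key (k : Type u) [Field k] (X : Scheme.{u})
    [X.Over (Spec (CommRingCat.of k))]
    (d : ℕ) (H H' L L' : X.Modules) (hH : CohB1.IsAmple H) (hL : PicF.IsInvertible L)
    (hHH' : Nonempty (CohB1.tensorMod H H' ≅ Coh.structureModule X)) (hLL' : Nonempty (CohB1.tensorMod L L' ≅ Coh.structureModule X))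
    (hcoh : ∀ M : X.Modules, PicF.IsInvertible M → Coh.IsCoh M)
    (hτ : ∀ F : X.Modules, Coh.IsCoh F →
      FGA.eulerCharLE k X (CohB1.tensorMod F L) d = FGA.eulerCharLE k X F d) :
    ∀ m n : ℕ,
      FGA.eulerCharLE k X (CohB1.tensorMod (CohB1.tensorPow L m) (CohB1.tensorPow H n)) d = FGA.eulerCharLE k X (CohB1.tensorPow H n) d ∧
      FGA.eulerCharLE k X (CohB1.tensorMod (CohB1.tensorPow L m) (CohB1.tensorPow H' n)) d = FGA.eulerCharLE k X (CohB1.tensorPow H' n) d ∧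
      FGA.eulerCharLE k X (CohB1.tensorMod (CohB1.tensorPow L' m) (CohB1.tensorPow H n)) d = FGA.eulerCharLE k X (CohB1.tensorPow H n) d ∧
      FGA.eulerCharLE k X (CohB1.tensorMod (CohB1.tensorPow L' m) (CohB1.tensorPow H' n)) d = FGA.eulerCharLE k X (CohB1.tensorPow H' n) d := by
  obtain ⟨e⟩ := hHH'
  obtain ⟨e'⟩ := hLL'
  have hτ' : TwistChi.Inv k d L := hτ
  have h1 : ∀ n, Coh.IsCoh (CohB1.tensorPow H n) := fun n => hcoh _ (TwistChi.isInvertible_tensorPow hH.1 n)
  have h2 : ∀ n, Coh.IsCoh (CohB1.tensorPow H' n) := fun n =>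
    hcoh _ (TwistChi.isInvertible_tensorPow (TwistChi.isInvertible_inv e) n)
  intro m n
  exact ⟨hτ'.pow hL m (h1 n), hτ'.pow hL m (h2 n),
    (hτ'.inv e').pow (TwistChi.isInvertible_inv e') m (h1 n),
    (hτ'.inv e').pow (TwistChi.isInvertible_inv e') m (h2 n)⟩

end Groth.Agent.Pic13.H971.S4305_of_S4276
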