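import Groth.Agent.Fga.PicMon
import Groth.Agent.Fga.TwistCoh
import Groth.Agent.S2122

/-!
# Twisting by a module `L` with `χ(F ⊗ L) = χ(F)` for all coherent `F`

If `χ(F ⊗ L) = χ(F)` for every coherent `F` and `L'` is an inverse of the invertible module `L`, then
`χ(L^{⊗ m} ⊗ F) = χ(F)` and `χ(L'^{⊗ m} ⊗ F) = χ(F)` for every coherent `F` and `m : ℕ`.
-/

set_option autoImplicit false
universe u
open CategoryTheory CategoryTheory.Limits AlgebraicGeometry
open Groth.Agent.Fga.PicMon

namespace Groth.Agent.Pic13.H971.TwistChi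

variable {X : Scheme.{u}}

theorem isInvertible_inv {L L' : X.Modules} (e : CohB1.tensorMod L L' ≅ Coh.structureModule X) :
    PicF.IsInvertible L' :=
  S2122.result L' L (Ega2.Tens.swap L' L ≪≫ e)

theorem isInvertible_tensorPow {L : X.Modules} (hL : PicF.IsInvertible L) (n : ℕ) :
    PicF.IsInvertible (CohB1.tensorPow L n) := by
  induction n with
  | zero => exact Fdesc.LocGen.isInvertible_structureModule
  | succ n ih => exact Fdesc.LocGen.isInvertible_tensorMod ih hL

variable (k : Type u) [Field k] [X.Over (Spec (CommRingCat.of k))] (d : ℕ)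

/-- `χ` on classes of modules -/
noncomputable def chi (X : Scheme.{u}) [X.Over (Spec (CommRingCat.of k))] : MC X → ℤ :=
  onCl (fun F => FGA.eulerCharLE k X F d) (fun _ _ ⟨e⟩ => euler_iso k X e d)

theorem chi_mc (F : X.Modules) : chi k d X (mc F) = FGA.eulerCharLE k X F d := rfl

/-- the property of `L` under consideration -/
def Inv (L : X.Modules) : Prop :=
  ∀ F : X.Modules, Coh.IsCoh F → FGA.eulerCharLE k X (CohB1.tensorMod F L) d = FGA.eulerCharLE k X F d

variable {k d}

theorem isCoh_tensorMod_left {F L : X.Modules} (hF : Coh.IsCoh F) (hL : PicF.IsInvertible L) :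
    Coh.IsCoh (CohB1.tensorMod L F) :=
  PerfA.CohSerre.isCoh_of_iso (Ega2.Tens.swap F L) (Fga.TwistCoh.isCoh_tensor hF hL)

theorem Inv.pow {L : X.Modules} (hL : PicF.IsInvertible L) (h : Inv k d L) (m : ℕ) {F : X.Modules} (hF : Coh.IsCoh F) :
    FGA.eulerCharLE k X (CohB1.tensorMod (CohB1.tensorPow L m) F) d = FGA.eulerCharLE k X F d := by
  induction m with
  | zero => exact euler_iso k X (Ega2.Tens.lunit F) d
  | succ m ih =>
    have h1 := h (CohB1.tensorMod (CohB1.tensorPow L m) F) (isCoh_tensorMod_left hF (isInvertible_tensorPow hL m))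
    rw [← ih, ← h1, ← chi_mc, ← chi_mc]
    congr 1
    simp only [mc_tensor, mc_tensorPow, pow_succ]
    ac_rfl

theorem Inv.inv {L L' : X.Modules} (h : Inv k d L) (e : CohB1.tensorMod L L' ≅ Coh.structureModule X) :
    Inv k d L' := by
  intro F hF
  have h1 := h (CohB1.tensorMod F L') (Fga.TwistCoh.isCoh_tensor hF (isInvertible_inv e))
  rw [← h1, ← chi_mc, ← chi_mc]
  congr 1
  have h2 : mc L * mc L' = 1 := by rw [← mc_tensor]; exact mc_eq e
  rw [mc_tensor, mc_tensor, mul_assoc, mul_comm (mc L'), h2, mul_one]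

end Groth.Agent.Pic13.H971.TwistChi
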